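import Cfsg.Agent.Lib.Goldschmidt.General.Corner.Defs
import Cfsg.Agent.Lib.Goldschmidt.General.Local
import Cfsg.Agent.Lib.Components.HatLayer
import Cfsg.Agent.Lib.Components.KBalance
import Cfsg.Agent.Lib.PLocal.Basic
import Cfsg.Agent.Lib.DegThreeP.Four
import Cfsg.Agent.Lib.OddOrderTheorem.Basic

/-!
# Balance at the members of `T` (owner: helper87; `CORNER.md`, section F)

For `e` in `T` outside `A` the centraliser of the component `K` in `Bar e` is the image of `R`, so it
is a normal four-group centralised by all elements of odd order.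

* `oddCent T`, `wideCore T e` : the odd part of `C(T)` and `O(C(e))` times it
* `Hyp.centralizer_comp` : `C(K)` is the image of `R`
* `Hyp.propagate`, `Hyp.balance_two`, `Hyp.balance_three`
-/

set_option autoImplicit false
set_option linter.unusedSectionVars false
set_option linter.style.haveILetI false

namespace Cfsg.Agent.Goldschmidt.General.Corner

open Cfsg Subgroup
open scoped commutatorElement

universe u

variable {G : Type u} [Group G]

/-- The odd part of the centraliser of `T`. -/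
def oddCent (T : Subgroup G) : Subgroup G :=
  (pPrimeCore 2 ↥(centralizer (T : Set G))).map (centralizer (T : Set G)).subtype

/-- The core of a centraliser extended by the odd part of `C(T)`. -/
abbrev wideCore (T : Subgroup G) (e : G) : Subgroup G :=
  centralizerPPrimeCore 2 e ⊔ oddCent T

theorem oddCent_le (T : Subgroup G) : oddCent T ≤ centralizer (T : Set G) := map_subtype_le _

/-- An element of odd order whose square commutes with `y` commutes with `y`. -/
theorem commute_of_odd_sq {M : Type*} [Group M] {x y : M} (hx : Odd (orderOf x))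
    (h : Commute (x ^ 2) y) : Commute x y := by
  obtain ⟨m, hm⟩ := exists_pow_eq_self_of_coprime (x := x) (n := 2) (Nat.coprime_two_left.2 hx)
  exact hm ▸ h.pow_left m

theorem odd_orderOf_of_mem {M : Type*} [Group M] [Finite M] {D : Subgroup M}
    (hD : Odd (Nat.card ↥D)) {x : M} (hx : x ∈ D) : Odd (orderOf x) :=
  hD.of_dvd_nat (Subgroup.orderOf_dvd_natCard D hx)

/-- A square fixes a group of order four, one of whose involutions it commutes with. -/
theorem commute_sq_of_four {M : Type*} [Group M] [Finite M] {V : Subgroup M}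
    (hcard : Nat.card ↥V ≤ 4) {z : M} (hzV : z ∈ V) (hz1 : z ≠ 1) (hz2 : z * z = 1) {n : M}
    (hn : ∀ v ∈ V, n * v * n⁻¹ ∈ V) (hc : Commute n z) {r : M} (hr : r ∈ V) : Commute (n ^ 2) r := by
  by_cases hr' : r = 1
  · rw [hr']; exact Commute.one_right _
  by_cases hre : r = z
  · rw [hre]; exact hc.pow_left 2
  have hne : r * z ≠ 1 := fun h => hre (by
    rw [mul_eq_one_iff_eq_inv, inv_eq_of_mul_eq_one_right hz2] at h; exact h)
  have hs4 : ({1, z, r, r * z} : Set M).ncard = 4 := by
    rw [Set.ncard_insert_of_notMem, Set.ncard_insert_of_notMem, Set.ncard_pair]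
    · exact fun h => hz1 (mul_left_cancel (a := r) (by rw [mul_one]; exact h.symm))
    · rintro (h | h)
      · exact hre h.symm
      · exact hr' (mul_right_cancel (b := z) (by rw [one_mul]; exact h.symm))
    · rintro (h | h | h)
      · exact hz1 h.symm
      · exact hr' h.symm
      · exact hne h.symm
  have hsR : ({1, z, r, r * z} : Set M) = (V : Set M) := by
    refine Set.eq_of_subset_of_ncard_le ?_ ?_ (Set.toFinite _)
    · rintro w (rfl | rfl | rfl | rfl)
      exacts [one_mem _, hzV, hr, mul_mem hr hzV]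
    · rw [hs4, ← Nat.card_coe_set_eq]; exact hcard
  have hfix : n * z * n⁻¹ = z := by rw [hc.eq, mul_inv_cancel_right]
  have hnn : n ^ 2 * r * (n ^ 2)⁻¹ = n * (n * r * n⁻¹) * n⁻¹ := by rw [pow_two]; group
  refine mul_inv_eq_iff_eq_mul.1 (hnn.trans ?_)
  rcases hsR.ge (hn r hr) with h | h | h | h
  · exact absurd (conj_eq_one_iff.1 h) hr'
  · exact absurd (mul_left_cancel (mul_right_cancel (h.trans hfix.symm))) hre
  · rw [h, h]
  · rw [h, show n * (r * z) * n⁻¹ = (n * r * n⁻¹) * (n * z * n⁻¹) by group, h, hfix, mul_assoc, hz2,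
      mul_one]

variable [Finite G]

/-- The hypotheses of the step. -/
structure FunctorHyp (S : Sylow 2 G) (A T : Subgroup G) : Prop where
  corner : CornerHyp G S A
  loc : LocalsHold A
  data : MaxData S A T
  sixteen : Nat.card ↥T = 16
  control : CoreControl A

variable {S : Sylow 2 G} {A T : Subgroup G} (H : FunctorHyp S A T)
include H

theorem FunctorHyp.comm {x y : G} (hx : x ∈ T) (hy : y ∈ T) : x * y = y * x :=
  Signalizer.commute_of_isMulCommutative H.data.elem.1 hx hy

theorem FunctorHyp.sq {x : G} (hx : x ∈ T) : x * x = 1 := by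
  rw [← pow_two]; exact H.data.elem.2 x hx

theorem FunctorHyp.two : IsPGroup 2 ↥T := Signalizer.isPGroup_of_elemAb H.data.elem

theorem FunctorHyp.le_centralizer_singleton {e : G} (he : e ∈ T) : T ≤ centralizer ({e} : Set G) :=
  fun _ hx => mem_centralizer_singleton_iff.2 (H.comm hx he)

theorem FunctorHyp.mem_centralizer_A {x : G} (hx : x ∈ T) : x ∈ centralizer (A : Set G) :=
  mem_centralizer_iff.2 fun _ ha => H.comm (H.data.base ha) hx

theorem FunctorHyp.exists_outside : ∃ r ∈ T, r ∉ A := by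
  by_contra! h
  have h1 := card_le_of_le (show T ≤ A from h)
  rw [H.sixteen, H.corner.four] at h1
  omega

/-- The elements of odd order of `C(T)`. -/
theorem FunctorHyp.mem_oddCent {x : G} (hx : x ∈ centralizer (T : Set G)) (ho : Odd (orderOf x)) :
    x ∈ oddCent T := by
  haveI : Fact (Nat.Prime 2) := ⟨Nat.prime_two⟩
  set C := centralizer (T : Set G)
  have hTC : T ≤ C := fun t ht => mem_centralizer_iff.2 fun s hs => H.comm hs ht
  obtain ⟨P, hP⟩ := (H.two.comap_of_injective C.subtype C.subtype_injective).exists_le_sylow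
  obtain ⟨r, hr, hrA⟩ := H.exists_outside
  have hPT : (P : Subgroup ↥C).map C.subtype = T := H.data.sylow r hr hrA _ (P.isPGroup'.map _)
    (fun t ht => ⟨⟨t, hTC ht⟩, hP (mem_subgroupOf.2 ht), rfl⟩)
    ((map_subtype_le _).trans (Signalizer.centralizer_le_singleton hr))
  obtain ⟨K, hKn, hK, -⟩ := DegThreeP.exists_odd_subgroup_of_central P fun n _ =>
    mem_centralizer_iff.2 fun p hp => Subtype.ext
      (mem_centralizer_iff.1 n.2 (p : G) (hPT.le ⟨p, hp, rfl⟩))
  have hKodd : (Nat.card ↥K).Coprime 2 := Nat.coprime_two_right.2 (by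
    rw [← Nat.not_even_iff_odd, even_iff_two_dvd]
    intro h2
    obtain ⟨g, hg⟩ := exists_prime_orderOf_dvd_card' 2 h2
    have := (hK g).1 g.2
    rw [Subgroup.orderOf_coe, hg] at this
    exact absurd this (by decide))
  exact ⟨⟨x, hx⟩, Cores.le_pPrimeCore hKn hKodd ((hK _).2 (by rwa [Subgroup.orderOf_mk])), rfl⟩

theorem FunctorHyp.oddCent_le_normalizer {e : G} (he : e ∈ T) :
    oddCent T ≤ normalizer (centralizerPPrimeCore 2 e : Set G) :=
  ((oddCent_le T).trans (Signalizer.centralizer_le_singleton he)).trans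
    (Components.centralizer_le_normalizer_centralizerPPrimeCore e)

theorem FunctorHyp.mem_wideCore {e x : G} (he : e ∈ T) :
    x ∈ wideCore T e ↔ ∃ o ∈ centralizerPPrimeCore 2 e, ∃ z ∈ oddCent T, o * z = x :=
  Coprime.mem_sup_iff (H.oddCent_le_normalizer he)

theorem FunctorHyp.not_dvd_wideCore {e : G} (he : e ∈ T) : ¬ 2 ∣ Nat.card ↥(wideCore T e) := by
  haveI : Fact (Nat.Prime 2) := ⟨Nat.prime_two⟩
  refine Signalizer.not_dvd_card_sup (Signalizer.not_dvd_card_core e) ?_ (H.oddCent_le_normalizer he)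
  rw [oddCent, Cores.card_map_subtype]
  exact Cores.not_dvd_card_pPrimeCore

theorem FunctorHyp.odd_of_wideCore {e x : G} (he : e ∈ T) (hx : x ∈ wideCore T e) :
    Odd (orderOf x) :=
  odd_orderOf_of_mem (Nat.odd_iff.2 (Nat.two_dvd_ne_zero.1 (H.not_dvd_wideCore he))) hx

theorem FunctorHyp.wideCore_le {e : G} (he : e ∈ T) : wideCore T e ≤ centralizer ({e} : Set G) :=
  sup_le (Signalizer.core_le_centralizer e)
    ((oddCent_le T).trans (Signalizer.centralizer_le_singleton he))

/-! ### The centraliser of a member outside `A` -/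

/-- `T` maps one-to-one. -/
theorem FunctorHyp.eq_one_of_proj {e x : G} (he : e ∈ T) (hx : x ∈ T)
    (h : proj e ⟨x, H.le_centralizer_singleton he hx⟩ = 1) : x = 1 := by
  haveI : Fact (Nat.Prime 2) := ⟨Nat.prime_two⟩
  exact congrArg Subtype.val (Coprime.eq_one_of_mem_of_mem (Coprime.coprime_of_isPGroup
    (Cores.coprime_card_pPrimeCore 2) (H.two.comap_of_injective _ (subtype_injective _)))
    ((QuotientGroup.eq_one_iff _).1 h) (mem_subgroupOf.2 hx :
      (⟨x, H.le_centralizer_singleton he hx⟩ : ↥(centralizer ({e} : Set G))) ∈ T.subgroupOf _))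

theorem FunctorHyp.exists_bad {e : G} (he : e ∈ T) (heA : e ∉ A) :
    ∃ (K : Subgroup (Bar e)) (R : Subgroup G) (g : G), BadAt A T e K R g :=
  H.data.bad e he heA

theorem FunctorHyp.card_complement {e : G} {K : Subgroup (Bar e)} {R : Subgroup G} {g : G}
    (hb : BadAt A T e K R g) : Nat.card ↥R = 4 := by
  have h1 := PLocal.card_sup_mul_card_inf (H := R) (K := A) (Signalizer.le_normalizer_of_commute
    fun a ha r hr => H.comm (H.data.base ha) (hb.le hr))
  rw [hb.sup, hb.disjoint, card_bot, H.sixteen, H.corner.four] at h1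
  omega

/-- The centraliser of the component is the image of the complement. -/
theorem FunctorHyp.centralizer_comp {e : G} (he : e ∈ T) (heA : e ∉ A) {K : Subgroup (Bar e)}
    {R : Subgroup G} {g : G} (hb : BadAt A T e K R g) :
    centralizer (K : Set (Bar e)) = bar R e := by
  haveI : Fact (Nat.Prime 2) := ⟨Nat.prime_two⟩
  have he1 : e ≠ 1 := fun h => heA (h ▸ one_mem A)
  set X := centralizer ({e} : Set G) with hXdef
  have hTX : T ≤ X := H.le_centralizer_singleton he
  have hRX : R ≤ X := hb.le.trans hTX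
  have hAX : A ≤ X := H.data.base.trans hTX
  -- the component is normal
  have hloc := localTarget _ _ _ (H.corner.ctx.localQuot (H.corner.ctx.centralizer_ne_top he1) hAX)
  haveI hKn : K.Normal := ⟨fun k hk x => by
    have h1 := hloc.conj K hb.moved x
    exact (hb.only _ h1).le ⟨k, hk, rfl⟩⟩
  set Y := centralizer (K : Set (Bar e))
  haveI hYn : Y.Normal := inferInstance
  set Rb := bar R e
  have hRY : Rb ≤ Y := hb.cent
  -- the image of `T` meets `Y` in the image of `R`
  have hTY : ∀ z ∈ bar T e, z ∈ Y → z ∈ Rb := by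
    rintro _ ⟨t, ht, rfl⟩ htY
    obtain ⟨r, hr, a, ha, hra⟩ := (Coprime.mem_sup_iff (N := R) (H := A)
      (Signalizer.le_normalizer_of_commute fun a ha r hr => H.comm (H.data.base ha) (hb.le hr))).1
      (hb.sup.ge (mem_subgroupOf.1 ht))
    have hrY : proj e ⟨r, hRX hr⟩ ∈ Y := hRY ⟨⟨r, hRX hr⟩, mem_subgroupOf.2 hr, rfl⟩
    have hte : t = ⟨r, hRX hr⟩ * ⟨a, hAX ha⟩ := Subtype.ext hra.symm
    rw [hte, map_mul] at htY
    have haY : proj e ⟨a, hAX ha⟩ ∈ Y := (mul_mem_cancel_left hrY).1 htY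
    have h1 : proj e ⟨a, hAX ha⟩ ∈ General.fixer (bar A e) K :=
      ⟨⟨⟨a, hAX ha⟩, mem_subgroupOf.2 ha, rfl⟩, haY⟩
    rw [hb.fixer, mem_bot] at h1
    have ha1 : a = 1 := H.eq_one_of_proj he (H.data.base ha) h1
    subst ha1
    exact ⟨⟨r, hRX hr⟩, mem_subgroupOf.2 hr, by rw [hte]; exact congrArg _ (Subtype.ext (mul_one r).symm)⟩
  -- a Sylow subgroup is the image of `T`
  obtain ⟨P₀, hP₀⟩ := (H.two.comap_of_injective X.subtype X.subtype_injective).exists_le_sylow
  have hP₀T : (P₀ : Subgroup ↥X).map X.subtype = T := H.data.sylow e he heA _ (P₀.isPGroup'.map _)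
    (fun t ht => ⟨⟨t, hTX ht⟩, hP₀ (mem_subgroupOf.2 ht), rfl⟩) (map_subtype_le _)
  set Pb := P₀.mapSurjective (f := proj e) (QuotientGroup.mk'_surjective _)
  have hPb : ((Pb : Subgroup (Bar e))) ≤ bar T e := by
    rintro _ ⟨x, hx, rfl⟩
    exact ⟨x, mem_subgroupOf.2 (hP₀T.le ⟨x, hx, rfl⟩), rfl⟩
  have hcardR : Nat.card ↥Rb = 4 := by
    rw [← H.card_complement hb, ← Nat.card_congr (subgroupOfEquivOfLe hRX).toEquiv]
    have hinj : Function.Injective ((proj e).comp (R.subgroupOf X).subtype) := by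
      rw [injective_iff_map_eq_one]
      exact fun x hx => Subtype.ext (Subtype.ext (H.eq_one_of_proj he (hb.le x.2) hx))
    rw [show Rb = (R.subgroupOf X).map (proj e) from rfl,
      Nat.card_congr (MonoidHom.ofInjective hinj).toEquiv, MonoidHom.range_comp, range_subtype]
  -- `R` is a Sylow subgroup of `Y`
  have hmax : ∀ P : Subgroup (Bar e), IsPGroup 2 ↥P → P ≤ Y → Rb ≤ P → P = Rb := by
    intro P hP hPY hRP
    obtain ⟨Q, hQ⟩ := hP.exists_le_sylow
    obtain ⟨c, hc⟩ := MulAction.exists_smul_eq (Bar e) Q Pb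
    refine (eq_of_le_of_card_ge hRP ?_).symm
    rw [← card_map_of_injective (f := (MulAut.conj c).toMonoidHom) (MulAut.conj c).injective]
    refine card_le_of_le ?_
    rintro _ ⟨p, hp, rfl⟩
    refine hTY _ (hPb ?_) (hYn.conj_mem p (hPY hp) c)
    rw [← hc, Sylow.coe_subgroup_smul]
    exact Coprime.conj_mem_conj.2 (hQ hp)
  -- it is centralised by its normaliser
  set eb := proj e ⟨e, hTX he⟩ with hebdef
  have hebR : eb ∈ Rb := ⟨⟨e, hTX he⟩, mem_subgroupOf.2 hb.mem, rfl⟩
  have heb1 : eb ≠ 1 := fun h => he1 (H.eq_one_of_proj he he h)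
  have hcen : ∀ x : Bar e, Commute x eb := by
    intro x
    obtain ⟨y, rfl⟩ := QuotientGroup.mk'_surjective _ x
    show proj e y * proj e _ = proj e _ * proj e y
    rw [← map_mul, ← map_mul]
    exact congrArg _ (Subtype.ext (mem_centralizer_singleton_iff.1 y.2))
  have hRcomm : ∀ z ∈ Rb, ∀ w ∈ Rb, Commute z w := by
    rintro _ ⟨z, hz, rfl⟩ _ ⟨w, hw, rfl⟩
    exact (show Commute z w from Subtype.ext (H.comm (hb.le hz) (hb.le hw))).map (proj e)
  have hebsq : eb * eb = 1 := by
    rw [hebdef, ← map_mul]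
    exact (congrArg (proj e) (Subtype.ext (H.sq he))).trans (map_one _)
  have hsq : ∀ n ∈ normalizer (Rb : Set (Bar e)), ∀ r ∈ Rb, Commute (n ^ 2) r := fun n hn r hr =>
    commute_sq_of_four hcardR.le hebR heb1 hebsq (fun v => (mem_normalizer_iff.1 hn v).1) (hcen n) hr
  have hNC : ∀ n ∈ Y, n ∈ normalizer (Rb : Set (Bar e)) → n ∈ centralizer (Rb : Set (Bar e)) := by
    intro n hnY hn
    obtain ⟨i, m, hm, hnim⟩ := Nat.exists_eq_two_pow_mul_odd (orderOf_pos n).ne'
    have h2 : IsPGroup 2 ↥(zpowers (n ^ m)) := by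
      refine IsPGroup.of_card (n := i) ?_
      rw [Nat.card_zpowers, orderOf_pow_of_dvd hm.pos.ne' ⟨2 ^ i, by rw [hnim, mul_comm]⟩, hnim,
        Nat.mul_div_cancel _ hm.pos]
    have hRb2 : IsPGroup 2 ↥Rb := IsPGroup.of_card (n := 2) (by rw [hcardR]; rfl)
    have hle : zpowers (n ^ m) ≤ normalizer (Rb : Set (Bar e)) := zpowers_le.2 (pow_mem hn m)
    have hP := hmax (Rb ⊔ zpowers (n ^ m)) (IsPGroup.to_sup_of_normal_left' hRb2 h2 hle)
      (sup_le hRY (zpowers_le.2 (pow_mem hnY m))) le_sup_left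
    have hmR : n ^ m ∈ Rb := hP.le (mem_sup_right (mem_zpowers _))
    refine mem_centralizer_iff.2 fun r hr => ?_
    obtain ⟨l, hl⟩ := hm
    have h3 : Commute (n ^ m) r := hRcomm _ hmR r hr
    have h4 : Commute n r := by
      have h5 : n = n ^ m * ((n ^ 2) ^ l)⁻¹ := by
        rw [hl, ← pow_mul, pow_succ', mul_inv_cancel_right]
      rw [h5]
      exact h3.mul_left ((hsq n hn r hr).pow_left l).inv_left
    exact h4.eq.symm
  -- so `Y` has an odd complement, which is trivial
  have hRY2 : IsPGroup 2 ↥(Rb.subgroupOf Y) :=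
    (IsPGroup.of_card (n := 2) (by rw [hcardR]; rfl) : IsPGroup 2 ↥Rb).comap_of_injective Y.subtype
      Y.subtype_injective
  obtain ⟨Q, hQ⟩ := hRY2.exists_le_sylow
  have hQe : (Q : Subgroup ↥Y).map Y.subtype = Rb := hmax _ (Q.isPGroup'.map _) (map_subtype_le _)
    fun z hz => ⟨⟨z, hRY hz⟩, hQ (mem_subgroupOf.2 hz), rfl⟩
  have hQc : normalizer ((Q : Subgroup ↥Y) : Set ↥Y) ≤ centralizer ((Q : Subgroup ↥Y) : Set ↥Y) := by
    intro n hn
    refine mem_centralizer_iff.2 fun q hq => Subtype.ext ?_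
    refine mem_centralizer_iff.1 (hNC n n.2 ?_) (q : Bar e) (hQe.le ⟨q, hq, rfl⟩)
    refine Coprime.mem_normalizer_of_forall fun z hz => ?_
    obtain ⟨q', hq', rfl⟩ := hQe.ge hz
    exact hQe.le ⟨n * q' * n⁻¹, (mem_normalizer_iff.1 hn q').1 hq', rfl⟩
  obtain ⟨O, hOn, hO, hOcard⟩ := DegThreeP.exists_odd_subgroup_of_central Q hQc
  have hObot : O = ⊥ := by
    have hn : (O.map Y.subtype).Normal := ⟨by
      rintro _ ⟨o, ho, rfl⟩ x
      refine ⟨⟨x * o * x⁻¹, hYn.conj_mem o o.2 x⟩, (hO _).2 ?_, rfl⟩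
      have h1 := (hO o).1 ho
      rw [← Subgroup.orderOf_coe] at h1 ⊢
      exact (MulEquiv.orderOf_eq (MulAut.conj x) (o : Bar e)).symm ▸ h1⟩
    have hodd : (Nat.card ↥(O.map Y.subtype)).Coprime 2 := Nat.coprime_two_right.2 (by
      rw [Cores.card_map_subtype, ← Nat.not_even_iff_odd, even_iff_two_dvd]
      intro h2
      obtain ⟨o, ho⟩ := exists_prime_orderOf_dvd_card' 2 h2
      have := (hO o).1 o.2
      rw [Subgroup.orderOf_coe, ho] at this
      exact absurd this (by decide))
    have h1 := Cores.le_pPrimeCore hn hodd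
    rwa [Cores.pPrimeCore_quotient_self, le_bot_iff, Subgroup.map_eq_bot_iff_of_injective _
      Y.subtype_injective] at h1
  rw [hObot, card_bot, one_mul, card_eq_iff_eq_top] at hOcard
  rw [← hQe, hOcard, ← MonoidHom.range_eq_map, range_subtype]

/-- Elements of odd order centralise the image of the complement. -/
theorem FunctorHyp.commute_complement {e : G} (he : e ∈ T) (heA : e ∉ A) {K : Subgroup (Bar e)}
    {R : Subgroup G} {g : G} (hb : BadAt A T e K R g) {x : Bar e} (hx : Odd (orderOf x))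
    {r : Bar e} (hr : r ∈ bar R e) : Commute x r := by
  have he1 : e ≠ 1 := fun h => heA (h ▸ one_mem A)
  set eb := proj e ⟨e, H.le_centralizer_singleton he he⟩ with hebdef
  have hY := H.centralizer_comp he heA hb
  have hloc := localTarget _ _ _ (H.corner.ctx.localQuot (H.corner.ctx.centralizer_ne_top he1)
    (H.data.base.trans (H.le_centralizer_singleton he)))
  haveI hKn : K.Normal := ⟨fun k hk x => (hb.only _ (hloc.conj K hb.moved x)).le ⟨k, hk, rfl⟩⟩
  haveI hRn : (bar R e).Normal := hY ▸ (inferInstance : (centralizer (K : Set (Bar e))).Normal)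
  have heb1 : eb ≠ 1 := fun h => he1 (H.eq_one_of_proj he he h)
  have hcen : Commute x eb := by
    obtain ⟨y, rfl⟩ := QuotientGroup.mk'_surjective _ x
    show proj e y * proj e _ = proj e _ * proj e y
    rw [← map_mul, ← map_mul]
    exact congrArg _ (Subtype.ext (mem_centralizer_singleton_iff.1 y.2))
  have hebsq : eb * eb = 1 := by
    rw [hebdef, ← map_mul]
    exact (congrArg (proj e) (Subtype.ext (H.sq he))).trans (map_one _)
  have hebR : eb ∈ bar R e := ⟨⟨e, H.le_centralizer_singleton he he⟩, mem_subgroupOf.2 hb.mem, rfl⟩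
  have hcard : Nat.card ↥(bar R e) ≤ 4 := by
    refine (Nat.le_of_dvd Nat.card_pos (Subgroup.card_map_dvd _ _)).trans ?_
    rw [Nat.card_congr (subgroupOfEquivOfLe (hb.le.trans (H.le_centralizer_singleton he))).toEquiv,
      H.card_complement hb]
  exact commute_of_odd_sq hx
    (commute_sq_of_four hcard hebR heb1 hebsq (fun v hv => hRn.conj_mem v hv x) hcen hr)

/-- A member of the complement transfers the core. -/
theorem FunctorHyp.propagate {e : G} (he : e ∈ T) (heA : e ∉ A) {K : Subgroup (Bar e)}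
    {R : Subgroup G} {g : G} (hb : BadAt A T e K R g) {d : G} (hd : d ∈ R) {x : G}
    (hx : x ∈ centralizerPPrimeCore 2 d) (hxe : x ∈ centralizer ({e} : Set G)) :
    x ∈ centralizerPPrimeCore 2 e := by
  haveI : Fact (Nat.Prime 2) := ⟨Nat.prime_two⟩
  set X := centralizer ({e} : Set G)
  have hdX : d ∈ X := H.le_centralizer_singleton he (hb.le hd)
  set dX : ↥X := ⟨d, hdX⟩
  set Dc := ((centralizerPPrimeCore 2 d).subgroupOf X).map (proj e)
  have hodd : Odd (Nat.card ↥Dc) :=
    (Nat.coprime_two_right.1 (Components.coprime_card_centralizerPPrimeCore (p := 2) d)).of_dvd_nat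
      ((Subgroup.card_map_dvd _ _).trans
        (Subgroup.card_comap_dvd_of_injective _ X.subtype X.subtype_injective))
  have hKn : K ≤ normalizer (Dc : Set (Bar e)) := by
    intro k hk
    have h1 : k ∈ centralizer (((zpowers dX).map (proj e) : Subgroup (Bar e)) : Set (Bar e)) := by
      rw [MonoidHom.map_zpowers, zpowers_eq_closure, centralizer_closure]
      refine mem_centralizer_singleton_iff.2 ?_
      exact mem_centralizer_iff.1 (hb.cent ⟨dX, mem_subgroupOf.2 hd, rfl⟩) k hk
    rw [Components.centralizer_map_of_coprime (p := 2) (Signalizer.isPGroup_zpowers_of_pow_eq_one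
      (show dX ^ 2 = 1 from Subtype.ext (H.data.elem.2 d (hb.le hd)))) _
      (Cores.coprime_card_pPrimeCore 2)] at h1
    obtain ⟨y, hy, rfl⟩ := h1
    have hyd : (y : G) ∈ centralizer ({d} : Set G) := mem_centralizer_singleton_iff.2
      (congrArg Subtype.val (mem_centralizer_iff.1 hy dX (mem_zpowers dX))).symm
    refine le_normalizer_map (proj e) ⟨y, mem_normalizer_iff.2 fun z => ?_, rfl⟩
    exact mem_normalizer_iff.1
      (Components.centralizer_le_normalizer_centralizerPPrimeCore (p := 2) d hyd) (z : G)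
  have hDK : Dc ≤ centralizer (K : Set (Bar e)) :=
    le_centralizer_iff.1 (commutator_eq_bot_iff_le_centralizer.1
      (Components.IsComponent.commutator_solvable hb.moved.1 (OddOrderTheorem.solvable hodd) hKn))
  have hmem : proj e ⟨x, hxe⟩ ∈ Dc := ⟨⟨x, hxe⟩, mem_subgroupOf.2 hx, rfl⟩
  have h2 : proj e ⟨x, hxe⟩ ∈ bar R e := H.centralizer_comp he heA hb ▸ hDK hmem
  have hR2 : IsPGroup 2 ↥(bar R e) :=
    ((H.two.to_le hb.le).comap_of_injective X.subtype X.subtype_injective).map _
  have h3 := eq_one_of_odd hR2 h2 (odd_orderOf_of_mem hodd hmem)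
  exact ⟨⟨x, hxe⟩, (QuotientGroup.eq_one_iff _).1 h3, rfl⟩

/-- An element of odd order commuting with `T` modulo the core. -/
theorem FunctorHyp.mem_wideCore_of_commute {e x : G} (he : e ∈ T)
    (hxe : x ∈ centralizer ({e} : Set G)) (ho : Odd (orderOf x))
    (h : ∀ t (ht : t ∈ T),
      Commute (proj e ⟨x, hxe⟩) (proj e ⟨t, H.le_centralizer_singleton he ht⟩)) :
    x ∈ wideCore T e := by
  haveI : Fact (Nat.Prime 2) := ⟨Nat.prime_two⟩
  set X := centralizer ({e} : Set G)
  set xX : ↥X := ⟨x, hxe⟩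
  have h1 : proj e xX ∈
      centralizer (((T.subgroupOf X).map (proj e) : Subgroup (Bar e)) : Set (Bar e)) := by
    refine mem_centralizer_iff.2 ?_
    rintro _ ⟨t, ht, rfl⟩
    exact ((h t (mem_subgroupOf.1 ht)).eq).symm
  have hT2 : IsPGroup 2 ↥(T.subgroupOf X) :=
    H.two.comap_of_injective X.subtype X.subtype_injective
  rw [Components.centralizer_map_of_coprime hT2 _ (Cores.coprime_card_pPrimeCore 2)] at h1
  obtain ⟨y, hy, hyx⟩ := h1
  have hyT : (y : G) ∈ centralizer (T : Set G) := mem_centralizer_iff.2 fun t ht =>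
    congrArg Subtype.val
      (mem_centralizer_iff.1 hy ⟨t, H.le_centralizer_singleton he ht⟩ (mem_subgroupOf.2 ht))
  obtain ⟨i, m, hm, hyim⟩ := Nat.exists_eq_two_pow_mul_odd (orderOf_pos (y : G)).ne'
  have hy'odd : Odd (orderOf ((y : G) ^ 2 ^ i)) := by
    rw [orderOf_pow_of_dvd (by positivity) ⟨m, hyim⟩, hyim, Nat.mul_div_cancel_left _ (by positivity)]
    exact hm
  obtain ⟨j, hj⟩ := exists_pow_eq_self_of_coprime (x := proj e xX) (n := 2 ^ i)
    ((Nat.coprime_two_left.2 ((ho.of_dvd_nat (by rw [← Subgroup.orderOf_mk x hxe]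
                                                 exact orderOf_map_dvd _ xX)))).pow_left i)
  set z : ↥X := (y ^ 2 ^ i) ^ j with hzdef
  have hz : (z : G) ∈ oddCent T := by
    rw [hzdef, Subgroup.coe_pow, Subgroup.coe_pow]
    exact pow_mem (H.mem_oddCent (pow_mem hyT _) hy'odd) j
  have h2 : proj e (xX * z⁻¹) = 1 := by
    rw [map_mul, map_inv, hzdef, map_pow, map_pow, hyx, hj, mul_inv_cancel]
  exact (H.mem_wideCore he).2
    ⟨(xX * z⁻¹ : ↥X), ⟨_, (QuotientGroup.eq_one_iff _).1 h2, rfl⟩, z, hz, by simp [xX]⟩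

/-- Balance for the four-groups, with the wide cores. -/
theorem FunctorHyp.balance_two {D : Subgroup G} (hD : D ≤ T) (hDk : Nat.card ↥D = 4) {e : G}
    (he : e ∈ T) (he1 : e ≠ 1) :
    Cfsg.signalizerInf D (wideCore T) ⊓ centralizer {e} ≤ wideCore T e := by
  haveI : Fact (Nat.Prime 2) := ⟨Nat.prime_two⟩
  rintro x ⟨hx, hxe⟩
  have hxd : ∀ d ∈ D, d ≠ 1 → x ∈ wideCore T d := fun d hd hd1 => mem_iInf.1 hx ⟨d, hd, hd1⟩
  have hsplit : ∀ d ∈ D, d ≠ 1 → (∀ o ∈ centralizerPPrimeCore 2 d,
      o ∈ centralizer ({e} : Set G) → o ∈ centralizerPPrimeCore 2 e) → x ∈ wideCore T e := by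
    intro d hd hd1 hcore
    obtain ⟨o, ho, z, hz, rfl⟩ := (H.mem_wideCore (hD hd)).1 (hxd d hd hd1)
    have hze : z ∈ centralizer ({e} : Set G) :=
      Signalizer.centralizer_le_singleton he (oddCent_le T hz)
    have hoe : o ∈ centralizer ({e} : Set G) := (mul_mem_cancel_right hze).1 hxe
    exact (H.mem_wideCore he).2 ⟨o, hcore o ho hoe, z, hz, rfl⟩
  obtain ⟨d₀, hd₀, hd₀1⟩ := (Subgroup.bot_or_exists_ne_one D).resolve_left fun hb => by
    rw [hb, card_bot] at hDk; omega
  by_cases heA : e ∈ A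
  · exact hsplit d₀ hd₀ hd₀1 fun o ho hoe =>
      H.control e heA he1 d₀ (H.mem_centralizer_A (hD hd₀)) (H.sq (hD hd₀)) ⟨ho, hoe⟩
  obtain ⟨K, R, g, hb⟩ := H.exists_bad he heA
  by_cases hmeet : D ⊓ R = ⊥
  swap
  · obtain ⟨d, hd, hd1⟩ := (Subgroup.bot_or_exists_ne_one (D ⊓ R)).resolve_left hmeet
    exact hsplit d hd.1 hd1 fun o ho hoe => H.propagate he heA hb hd.2 ho hoe
  have hDR : D ⊔ R = T := by
    refine eq_of_le_of_card_ge (sup_le hD hb.le) ?_
    have h1 := PLocal.card_sup_mul_card_inf (H := D) (K := R) (Signalizer.le_normalizer_of_commute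
      fun r hr d hd => H.comm (hb.le hr) (hD hd))
    rw [hmeet, card_bot, mul_one, hDk, H.card_complement hb] at h1
    rw [h1, H.sixteen]
  have hodd : Odd (orderOf x) := H.odd_of_wideCore (hD hd₀) (hxd d₀ hd₀ hd₀1)
  refine H.mem_wideCore_of_commute he hxe hodd fun t ht => ?_
  have key : D ⊔ R ≤
      ((centralizer ({proj e ⟨x, hxe⟩} : Set (Bar e))).comap (proj e)).map
        (centralizer ({e} : Set G)).subtype := by
    refine sup_le (fun d hd => ?_) fun r hr => ?_
    · refine ⟨⟨d, H.le_centralizer_singleton he (hD hd)⟩, mem_centralizer_singleton_iff.2 ?_, rfl⟩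
      rw [← map_mul, ← map_mul]
      by_cases hd1 : d = 1
      · exact congrArg _ (Subtype.ext (by simp [hd1]))
      · exact congrArg _ (Subtype.ext
          (mem_centralizer_singleton_iff.1 (H.wideCore_le (hD hd) (hxd d hd hd1))).symm)
    · refine ⟨⟨r, H.le_centralizer_singleton he (hb.le hr)⟩, mem_centralizer_singleton_iff.2 ?_, rfl⟩
      exact (H.commute_complement he heA hb
        ((hodd.of_dvd_nat (by rw [← Subgroup.orderOf_mk x hxe]; exact orderOf_map_dvd _ _)))
        ⟨_, mem_subgroupOf.2 hr, rfl⟩).eq.symm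
  obtain ⟨y, hy, hyt⟩ := key (hDR.ge ht)
  obtain rfl : y = ⟨t, H.le_centralizer_singleton he ht⟩ := Subtype.ext hyt
  exact (mem_centralizer_singleton_iff.1 hy).symm

/-- Balance for the subgroups of order eight. -/
theorem FunctorHyp.balance_three {F : Subgroup G} (hF : F ≤ T) (hFk : Nat.card ↥F = 8) {e : G}
    (he : e ∈ T) (he1 : e ≠ 1) :
    Cfsg.signalizerDelta 2 F ⊓ centralizer {e} ≤ centralizerPPrimeCore 2 e := by
  rintro x ⟨hx, hxe⟩
  have hxd : ∀ d ∈ F, d ≠ 1 → x ∈ centralizerPPrimeCore 2 d :=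
    fun d hd hd1 => mem_iInf.1 hx ⟨d, hd, hd1⟩
  by_cases heA : e ∈ A
  · obtain ⟨d, hd, hd1⟩ := (Subgroup.bot_or_exists_ne_one F).resolve_left fun hb => by
      rw [hb, card_bot] at hFk; omega
    exact H.control e heA he1 d (H.mem_centralizer_A (hF hd)) (H.sq (hF hd)) ⟨hxd d hd hd1, hxe⟩
  obtain ⟨K, R, g, hb⟩ := H.exists_bad he heA
  obtain ⟨d, hd, hd1⟩ := (Subgroup.bot_or_exists_ne_one (F ⊓ R)).resolve_left fun hm => by
    have h1 := PLocal.card_sup_mul_card_inf (H := F) (K := R) (Signalizer.le_normalizer_of_commute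
      fun r hr d hd => H.comm (hb.le hr) (hF hd))
    rw [hm, card_bot, mul_one, hFk, H.card_complement hb] at h1
    have h2 := card_le_of_le (sup_le hF hb.le)
    rw [h1, H.sixteen] at h2
    omega
  exact H.propagate he heA hb hd.2 (hxd d hd.1 hd1) hxe

end Cfsg.Agent.Goldschmidt.General.Corner
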