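import Cfsg.Agent.Lib.Signalizer.KFamily

/-!
# The functor of a `k`-balanced family (owner: helper87; `CORNER.md`, section F)

`isSolvableSignalizerFunctor_family` : the construction of `isSignalizerFunctor_iSup_delta` with any
family `O a ≤ C(a)` in the place of the cores of the centralisers.
-/

set_option autoImplicit false
set_option linter.style.haveILetI false

namespace Cfsg.Agent.Goldschmidt.General.Corner

open Subgroup Signalizer

universe u

variable {G : Type u} [Group G]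

/-- The values of the functor of a family. -/
abbrev familyTheta (p k : ℕ) (A : Subgroup G) (O : G → Subgroup G) (a : G) : Subgroup G :=
  ⨆ D : {D : Subgroup G // D ≤ A ∧ Nat.card ↥D = p ^ k},
    Cfsg.signalizerInf (D : Subgroup G) O ⊓ centralizer {a}

/-- A balanced family gives a solvable signalizer functor. -/
theorem isSolvableSignalizerFunctor_family [Finite G] {p k : ℕ} [hp : Fact p.Prime] (hk : 1 ≤ k)
    {A : Subgroup G} (hA : Cfsg.IsElementaryAbelian p A) (hAk : p ^ (k + 2) ≤ Nat.card A)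
    (O : G → Subgroup G) (hC : ∀ a ∈ A, a ≠ 1 → O a ≤ centralizer ({a} : Set G))
    (hO : ∀ a ∈ A, a ≠ 1 → ¬ p ∣ Nat.card ↥(O a))
    (hinv : ∀ a ∈ A, a ≠ 1 → A ≤ normalizer (O a : Set G))
    (hsolv : ∀ a ∈ A, a ≠ 1 → Group.IsSolvable ↥(O a))
    (hbal : ∀ D : Subgroup G, D ≤ A → Nat.card D = p ^ k → ∀ a ∈ A, a ≠ 1 →
      Cfsg.signalizerInf D O ⊓ centralizer {a} ≤ O a) :
    Cfsg.IsSolvableSignalizerFunctor p A (familyTheta p k A O) := by
  have hA1 : A ≠ ⊥ := ne_bot_of_pow_le (by omega) hAk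
  have hΔA : ∀ D : Subgroup G, D ≤ A → A ≤ normalizer (Cfsg.signalizerInf D O : Set G) :=
    fun D hD => le_normalizer_of_conj_mem fun a ha x hx => mem_iInf.2 fun d =>
      conj_mem (hinv d.1 (hD d.2.1) d.2.2) ha (mem_iInf.1 hx d)
  have hCA : ∀ a ∈ A, A ≤ normalizer (centralizer ({a} : Set G) : Set G) := by
    intro a ha
    rw [← centralizer_closure, ← zpowers_eq_closure]
    exact le_normalizer_centralizer (le_normalizer_of_commute fun u hu v hv =>
      commute_of_isMulCommutative hA.1 hu (zpowers_le.2 ha hv))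
  have hθO : ∀ a ∈ A, a ≠ 1 → familyTheta p k A O a ≤ O a :=
    fun a ha ha1 => iSup_le fun D => hbal D D.2.1 D.2.2 a ha ha1
  refine ⟨⟨fun a _ _ => iSup_le fun D => inf_le_right,
    fun a ha ha1 => not_dvd_card_of_le (hθO a ha ha1) (hO a ha ha1),
    fun a ha _ c hc x hx => conj_mem (le_normalizer_iSup fun D : {D : Subgroup G // D ≤ A ∧ Nat.card ↥D = p ^ k} =>
      le_normalizer_inf (hΔA D D.2.1) (hCA a ha)) hc hx, fun a ha ha1 b hb' hb1 => ?_⟩,
    fun a ha ha1 => by
      haveI := hsolv a ha ha1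
      exact Group.isSolvable_of_isSolvable_injective (Subgroup.inclusion_injective (hθO a ha ha1))⟩
  have hfam : IsKFamily p k A (O a) (fun D => Cfsg.signalizerInf D O ⊓ centralizer {a}) := by
    refine ⟨fun D hD hDk => le_inf (hbal D hD hDk a ha ha1) fun x hx => mem_centralizer_iff.2
        fun d hd => ?_, fun D hD _ => le_normalizer_inf (hΔA D hD) (hCA a ha),
      fun D hD hDk D' hD' hDk' x hx => ⟨mem_iInf.2 fun d => ?_, hx.1.2⟩⟩
    · by_cases hd1 : d = 1
      · rw [hd1, one_mul, mul_one]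
      · exact (mem_centralizer_singleton_iff.1 (hC d (hD hd) hd1
          (mem_iInf.1 hx.1 ⟨d, hd, hd1⟩))).symm
    · exact hbal D hD hDk d (hD' d.2.1) d.2.2
        ⟨hx.1.1, Signalizer.centralizer_le_singleton d.2.1 hx.2⟩
  refine le_of_hyperplanes hA hA1 _ _
    (not_dvd_card_of_le (inf_le_left.trans (hθO a ha ha1)) (hO a ha ha1))
    (le_normalizer_inf (le_normalizer_iSup fun D =>
      le_normalizer_inf (hΔA D D.2.1) (hCA a ha)) (hCA b hb')) fun H hH hi => ?_
  have hHk : p ^ k ≤ Nat.card H := by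
    have h := card_hyperplane_mul hH hi
    rw [← h, show k + 2 = (k + 1) + 1 by omega, pow_succ] at hAk
    exact (Nat.pow_le_pow_right hp.out.pos (by omega)).trans
      (Nat.le_of_mul_le_mul_right hAk hp.out.pos)
  obtain ⟨D, -, hDH, hDk⟩ := exists_between hA (bot_le : ⊥ ≤ H) hH
    (by rw [card_bot]; exact Nat.one_le_pow _ _ hp.out.pos) hHk
  intro x hx
  refine le_iSup (fun D : {D : Subgroup G // D ≤ A ∧ Nat.card ↥D = p ^ k} =>
    Cfsg.signalizerInf (D : Subgroup G) O ⊓ centralizer {b}) ⟨D, hDH.trans hH, hDk⟩ ⟨?_, hx.1.2⟩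
  exact (hfam.inf_centralizer_le hk hA hAk (hsolv a ha ha1) (hO a ha ha1)
    (hinv a ha ha1) (hDH.trans hH) hDk ⟨hx.1.1, centralizer_le hDH hx.2⟩).1

end Cfsg.Agent.Goldschmidt.General.Corner
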